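import Cfsg.Agent.Lib.LeechCount.Co1Out.Word

/-!
The vectors of norm 64 fixed by the element of order 11, and the absence of an element of the
permutation group centralising it and exchanging its fixed points.
-/

set_option autoImplicit false

namespace Cfsg.Agent.LeechCount.Co1Out

open Cfsg Cfsg.Agent.Leech Cfsg.Agent.Golay24 Cfsg.Agent.LeechCount.Co3Rank Cfsg.Agent.LeechCount.Co3Out
open scoped Pointwise

noncomputable section

attribute [local irreducible] normFS dotFS

/-- Membership with explicit parity. -/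
def latB (m : ℤ) (x : Vec) : Bool :=
  decide (∀ i, (2 : ℤ) ∣ x i - m) && decide ((8 : ℤ) ∣ (∑ i, x i) - 4 * m) && inCode (maskOf (pat m x))

theorem latB_of_mem {x : Vec} (hx : x ∈ leechLattice) : (latB 0 x || latB 1 x) = true := by
  rw [Bool.or_eq_true]
  rcases exists_witness hx with h | h
  · left; simp only [latB, Bool.and_eq_true, decide_eq_true_eq]
    exact ⟨⟨h.1, h.2.1⟩, mem_supports_iff_inCode.1 h.2.2⟩
  · right; simp only [latB, Bool.and_eq_true, decide_eq_true_eq]
    exact ⟨⟨h.1, h.2.1⟩, mem_supports_iff_inCode.1 h.2.2⟩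

/-- The words giving the twelve fixed vectors. -/
def rWords : List (List Ltr) := [[], [.g .d], [.s, .g .d]]

/-- The twelve fixed vectors, as lists. -/
def cand : List (List ℤ) :=
  rWords.flatMap fun w => [uL w (e8L 23), uL w (e8L 0), negL (uL w (e8L 23)), negL (uL w (e8L 0))]

theorem cand_check : ∀ p ∈ Finset.Icc (-8 : ℤ) 8, ∀ q ∈ Finset.Icc (-8 : ℤ) 8,
    ∀ A ∈ Finset.Icc (-2 : ℤ) 2, ∀ B ∈ Finset.Icc (-2 : ℤ) 2,
    p ^ 2 + q ^ 2 + 11 * A ^ 2 + 11 * B ^ 2 = 64 →
      (latB 0 (fourVec p q A B) || latB 1 (fourVec p q A B)) = true →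
        cand.any (fun l => decide (∀ i, vecOf l i = fourVec p q A B i)) = true := by
  decide +kernel

/-- A fixed vector of norm 64 is one of the twelve. -/
theorem fixed_b {y : Vec} (hy : y ∈ leechLattice) (hn : sqNorm y = 64)
    (hf : ap (gB : ↥Co0) y = y) : ∃ w ∈ rWords, ∃ k : ℕ, (k = 23 ∨ k = 0) ∧
      (y = vecOf (uL w (e8L k)) ∨ y = -vecOf (uL w (e8L k))) := by
  rw [gB_val] at hf
  have hrep : ∀ i, y i = y (ptN (bCls i)) := fun i => by
    conv_lhs => rw [← cycle_b i]
    exact iterate_const (fixed_app a_inM24.2 hy hf) _ _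
  have hval : ∀ i : GolayPt, bCls i ∈ ({23, 0, 1, 4} : Finset ℕ) := by decide +kernel
  set p := y (ptN 23) with hp0
  set q := y (ptN 0) with hq0
  set A := y (ptN 1) with hA0
  set B := y (ptN 4) with hB0
  have hy4 : y = fourVec p q A B := funext fun i => by
    rw [hrep i]
    have := hval i
    simp only [Finset.mem_insert, Finset.mem_singleton] at this
    rcases this with h | h | h | h <;> simp [fourVec, h, p, q, A, B]
  have f1 := (four_formulas p q A B).1
  rw [← hy4, hn] at f1
  have hp : -8 ≤ p ∧ p ≤ 8 := by constructor <;> nlinarith [sq_nonneg q, sq_nonneg A, sq_nonneg B]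
  have hq : -8 ≤ q ∧ q ≤ 8 := by constructor <;> nlinarith [sq_nonneg p, sq_nonneg A, sq_nonneg B]
  have hA : -2 ≤ A ∧ A ≤ 2 := by constructor <;> nlinarith [sq_nonneg p, sq_nonneg q, sq_nonneg B]
  have hB : -2 ≤ B ∧ B ≤ 2 := by constructor <;> nlinarith [sq_nonneg p, sq_nonneg q, sq_nonneg A]
  have hc := cand_check p (Finset.mem_Icc.2 hp) q (Finset.mem_Icc.2 hq) A (Finset.mem_Icc.2 hA) B
    (Finset.mem_Icc.2 hB) f1.symm (hy4 ▸ latB_of_mem hy)
  rw [List.any_eq_true] at hc
  obtain ⟨l, hl, he⟩ := hc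
  have he' : y = vecOf l := hy4.trans (funext fun i => ((of_decide_eq_true he) i).symm)
  obtain ⟨w, hw, hlw⟩ := List.mem_flatMap.1 hl
  refine ⟨w, hw, ?_⟩
  simp only [List.mem_cons, List.not_mem_nil, or_false] at hlw
  rcases hlw with rfl | rfl | rfl | rfl
  exacts [⟨23, Or.inl rfl, Or.inl he'⟩, ⟨0, Or.inr rfl, Or.inl he'⟩,
    ⟨23, Or.inl rfl, Or.inr (he'.trans (vecOf_negL _))⟩, ⟨0, Or.inr rfl, Or.inr (he'.trans (vecOf_negL _))⟩]

/-- The only possible exchange of the fixed points commuting with the element of order 11. -/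
def swapTgt (x y : GolayPt) (i : GolayPt) : GolayPt :=
  (appPt m23Out.b)^[bPos.getD (idx i).val 0]
    (if bCls i = 23 then some 0 else if bCls i = 0 then none else if bCls i = 1 then x else y)

/-- Its packed form. -/
def swapPk (x y : GolayPt) : ℕ :=
  ((List.range 24).map fun j => Nat.shiftLeft (idx (swapTgt x y (ptN j))).val (5 * j)).sum

theorem swap_check : ∀ x y : GolayPt, (∀ i : GolayPt, app (swapPk x y) (idx i).val = (idx (swapTgt x y i)).val) ∧
    (basisMasks.any fun m => !inCode (img (swapPk x y) m)) = true := by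
  decide +kernel

theorem basis_inCode : ∀ m ∈ basisMasks, m < 2 ^ 24 ∧ inCode m = true := by decide +kernel

theorem no_swap {σ : Equiv.Perm GolayPt} (hσ : σ ∈ M24)
    (hc : ∀ i, σ (appPt m23Out.b i) = appPt m23Out.b (σ i)) : σ none ≠ some 0 := by
  intro h0
  have hit : ∀ k i, σ ((appPt m23Out.b)^[k] i) = (appPt m23Out.b)^[k] (σ i) := fun k i =>
    ((show Function.Semiconj σ (appPt m23Out.b) (appPt m23Out.b) from hc).iterate_right k) i
  have hfx : ∀ i, appPt m23Out.b i = i → i = none ∨ i = some 0 := by decide +kernel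
  have h00 : σ (some 0) = none := by
    have hb : appPt m23Out.b (some 0) = some 0 := by decide +kernel
    rcases hfx (σ (some 0)) (by rw [← hc, hb]) with h | h
    · exact h
    · exact absurd (σ.injective (h.trans h0.symm)) (by simp)
  have hval : ∀ i : GolayPt, bCls i ∈ ({23, 0, 1, 4} : Finset ℕ) := by decide +kernel
  have hpt : ptN 23 = none ∧ ptN 0 = some 0 := by decide +kernel
  have htgt : ∀ i, σ i = swapTgt (σ (ptN 1)) (σ (ptN 4)) i := fun i => by
    conv_lhs => rw [← cycle_b i, hit]
    unfold swapTgt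
    congr 1
    have := hval i
    simp only [Finset.mem_insert, Finset.mem_singleton] at this
    rcases this with h | h | h | h <;> simp [h, hpt.1, hpt.2, h0, h00]
  obtain ⟨happ, hbad⟩ := swap_check (σ (ptN 1)) (σ (ptN 4))
  generalize hp : swapPk (σ (ptN 1)) (σ (ptN 4)) = p at happ hbad
  obtain ⟨m, hm, hmb⟩ := List.any_eq_true.1 hbad
  have himg : maskOf ((Golay24.setOf m).image σ) = img p m := by
    refine Nat.eq_of_testBit_eq fun j => ?_
    rw [Bool.eq_iff_iff, testBit_img]
    constructor
    · intro hj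
      have hlt : j < 24 := by
        by_contra hge
        rw [Nat.testBit_lt_two_pow (lt_of_lt_of_le (maskOf_lt _) (Nat.pow_le_pow_right (by norm_num) (by omega)))] at hj
        exact Bool.false_ne_true hj
      have hj' : pt ⟨j, hlt⟩ ∈ (Golay24.setOf m).image σ := by
        rw [← setOf_maskOf ((Golay24.setOf m).image σ), mem_setOf, idx_pt]; exact hj
      obtain ⟨i, hi, he⟩ := Finset.mem_image.1 hj'
      refine ⟨idx i, mem_setOf.1 hi, ?_⟩
      rw [happ i, ← htgt i, he, idx_pt]
    · rintro ⟨i, hi, rfl⟩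
      have hmem : σ (pt i) ∈ (Golay24.setOf m).image σ := Finset.mem_image_of_mem _ (mem_setOf.2 (by rwa [idx_pt]))
      rw [← setOf_maskOf ((Golay24.setOf m).image σ), mem_setOf, htgt, ← happ, idx_pt] at hmem
      exact hmem
  have hin : Leech.InC (Golay24.setOf m) := mem_supports_iff_inCode.2 (by
    rw [maskOf_setOf (basis_inCode m hm).1]; exact (basis_inCode m hm).2)
  have := mem_supports_iff_inCode.1 ((M24_map hσ _).2 hin)
  rw [himg] at this
  rw [this] at hmb
  simp at hmb

theorem inv_check : (codeList.filter fun S => img m23Out.b S == S && !S.testBit 23).all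
    (fun S => S == 0 || S == sgnD) = true := by decide +kernel

/-- An invariant code word avoiding the fixed point is empty or the dodecad. -/
theorem inv_word {S : Finset GolayPt} (hS : Leech.InC S) (hn : none ∉ S)
    (hi : S.image (toPerm m23Out.b) = S) : S = ∅ ∨ S = Golay24.setOf sgnD := by
  have hv := valid_of_inM24 a_inM24.2
  have h1 : img m23Out.b (maskOf S) = maskOf S := by
    rw [← maskOf_smul hv, show toPerm m23Out.b • S = S from hi]
  have h2 : (maskOf S).testBit 23 = false := by
    by_contra h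
    rw [Bool.not_eq_false] at h
    have : (none : GolayPt) ∈ Golay24.setOf (maskOf S) := mem_setOf.2 h
    rw [setOf_maskOf] at this
    exact hn this
  have hm : maskOf S ∈ codeList := mem_supports_iff.1 hS
  have := List.all_eq_true.1 inv_check (maskOf S) (List.mem_filter.2 ⟨hm, by simp [h1, h2]⟩)
  simp only [Bool.or_eq_true, beq_iff_eq] at this
  rcases this with h | h
  · left; rw [← setOf_maskOf S, h]; ext; simp
  · right; rw [← setOf_maskOf S, h]

end

end Cfsg.Agent.LeechCount.Co1Out
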