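import Cfsg.Agent.Lib.LeechCount.Co1Out.Cand

/-!
The normaliser relations of the elements of order 23 and 11 in the quotient by the centre.
-/

set_option autoImplicit false

namespace Cfsg.Agent.LeechCount.Co1Out

open Cfsg Cfsg.Agent.Leech Cfsg.Agent.Golay24 Cfsg.Agent.LeechCount.Co3Rank Cfsg.Agent.LeechCount.Co3Out

noncomputable section

attribute [local irreducible] normFS dotFS

/-- The first generator upstairs. -/
abbrev A0 : ↥Co0 := ((gA : ↥G3) : ↥Co0)
/-- The second generator upstairs. -/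
abbrev B0 : ↥Co0 := ((gB : ↥G3) : ↥Co0)
/-- The third generator upstairs. -/
abbrev C0 : ↥Co0 := ((gC : ↥G3) : ↥Co0)

/-- A relation between elements of odd order lifts without sign. -/
theorem lift_rel {g h k : ↥Co0} {n : ℕ} (hn : Odd n) (hh : h ^ n = 1) (hk : k ^ n = 1)
    (he : piQ g * piQ h = piQ k * piQ g) : g * h = k * g := by
  rw [← map_mul, ← map_mul, piQ_eq] at he
  rcases he with e | e
  · exact e
  exfalso
  have e2 : g * h * g⁻¹ = negOne * k := by rw [e, ← mul_assoc, mul_inv_cancel_right]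
  have e3 : (g * h * g⁻¹) ^ n = 1 := by rw [conj_pow, hh, mul_one, mul_inv_cancel]
  rw [e2, Commute.mul_pow (negOne_central k), hk, mul_one] at e3
  obtain ⟨m, rfl⟩ := hn
  rw [pow_succ, pow_mul, pow_two, negOne_sq, one_pow, one_mul] at e3
  exact negOne_ne_one e3

theorem A0_pow : A0 ^ 23 = 1 := by
  rw [A0, ← Subgroup.coe_pow, gA, ← map_pow, a_pow23, map_one, Subgroup.coe_one]

theorem B0_pow : B0 ^ 11 = 1 := by rw [B0, ← Subgroup.coe_pow, gB_pow11, Subgroup.coe_one]

theorem e8_A : ap A0 (e8 none) = e8 none := e8_fixed _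

theorem e8_B : ap B0 (e8 none) = e8 none := e8_fixed _

theorem pow_fix0 {g : ↥Co0} {y : Vec} (hy : y ∈ leechLattice) (h : ap g y = y) :
    ∀ n : ℕ, ap (g ^ n) y = y
  | 0 => by rw [pow_zero]; exact ap_one y
  | n + 1 => by rw [pow_succ, ap_mul _ _ hy, h, pow_fix0 hy h n]

theorem fixed_of_rel0 {g h k : ↥Co0} (hrel : g * h = k * g) {y : Vec} (hy : y ∈ leechLattice)
    (hfix : ap h y = y) : ap k (ap g y) = ap g y := by
  rw [← ap_mul _ _ hy, ← hrel, ap_mul _ _ hy, hfix]

theorem fixed_a0 {y : Vec} (hy : y ∈ leechLattice) (hn : sqNorm y = 64) (hf : ap A0 y = y) :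
    y = e8 none ∨ y = -e8 none := by
  rw [A0, gA_val] at hf
  have hc : ∀ i, i ≠ none → y i = y (some 0) := fun i hi => by
    obtain ⟨k, hk⟩ := (cycle_a i).resolve_left hi
    rw [← hk, iterate_const (fixed_app a_inM24.1 hy hf)]
  have e1 : sqNorm y = y none ^ 2 + 23 * y (some 0) ^ 2 := by
    rw [sqNorm, Fintype.sum_option, Finset.sum_congr rfl fun i _ => by rw [hc (some i) (by simp)]]
    simp [ZMod.card]
  rw [hn] at e1
  have hb : -8 ≤ y none ∧ y none ≤ 8 ∧ -1 ≤ y (some 0) ∧ y (some 0) ≤ 1 := by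
    refine ⟨?_, ?_, ?_, ?_⟩ <;> nlinarith [sq_nonneg (y none), sq_nonneg (y (some 0))]
  have hcases : ∀ p ∈ Finset.Icc (-8 : ℤ) 8, ∀ t ∈ Finset.Icc (-1 : ℤ) 1, 64 = p ^ 2 + 23 * t ^ 2 →
      (p = 8 ∨ p = -8) ∧ t = 0 := by decide +kernel
  obtain ⟨hp, h0⟩ := hcases _ (Finset.mem_Icc.2 ⟨hb.1, hb.2.1⟩) _ (Finset.mem_Icc.2 hb.2.2) e1
  rcases hp with hp | hp
  · left; funext i
    rcases eq_or_ne i none with rfl | hi
    · simp [e8, hp]
    · rw [hc i hi, h0]; simp [e8, hi]
  · right; funext i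
    rcases eq_or_ne i none with rfl | hi
    · simp [e8, hp]
    · rw [hc i hi, h0]; simp [e8, hi]

/-- An element fixing the coordinate vector as a sign change and a permutation. -/
theorem exists_mono {g : ↥Co0} (he : ap g (e8 none) = e8 none) :
    ∃ (σ : ↥Spor.M23) (S : Finset GolayPt) (hS : Leech.InC S), none ∉ S ∧ g = signCo S hS * (iota σ : ↥Co0) := by
  obtain ⟨σ, S, hσ, hS, happ⟩ := stab_e8 g (by rw [he]; exact Cong.refl _)
  have h1 := congrFun (he.symm.trans (happ _ (e8_mem none))) (σ none)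
  simp only [mono, e8, Equiv.symm_apply_apply, if_true] at h1
  have hn : σ none = none := by
    by_contra hne
    rw [if_neg hne] at h1
    split at h1 <;> omega
  rw [hn] at h1
  have hnS : none ∉ S := fun h => by rw [if_pos h] at h1; simp at h1
  refine ⟨⟨σ, hσ, hn⟩, S, hS, hnS, ext_e8 fun i => ?_⟩
  rw [happ _ (e8_mem i), ap_mul _ _ (e8_mem i), iota_val]
  funext j
  rw [ap_signCo hS (ap_mem _ (e8_mem i)), ap_permCo _ (e8_mem i)]
  rfl

/-- Comparing two normal forms. -/
theorem sign_perm_unique {σ τ : Equiv.Perm GolayPt} (hσ : σ ∈ M24) (hτ : τ ∈ M24) {S T : Finset GolayPt}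
    (hS : Leech.InC S) (hT : Leech.InC T) (h : signCo S hS * permCo σ hσ = signCo T hT * permCo τ hτ) :
    σ = τ ∧ S = T := by
  have key : ∀ {π : Equiv.Perm GolayPt} (hπ : π ∈ M24) {U : Finset GolayPt} (hU : Leech.InC U) (i : GolayPt),
      ap (signCo U hU * permCo π hπ) (e8 i) = mono π U (e8 i) := fun {π} hπ {U} hU i => by
    rw [ap_mul _ _ (e8_mem i)]
    funext j
    rw [ap_signCo hU (ap_mem _ (e8_mem i)), ap_permCo hπ (e8_mem i)]
    rfl
  refine mono_unique fun i => ?_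
  rw [← key hσ hS i, h, key hτ hT i]

theorem signCo_empty (h : Leech.InC (∅ : Finset GolayPt)) : signCo ∅ h = 1 := ext_ap fun x hx => by
  rw [ap_signCo_mono h hx, ap_one]
  funext i; simp [mono, Equiv.Perm.one_def]

theorem iota_coe_mul (σ τ : ↥Spor.M23) : (iota (σ * τ) : ↥Co0) = (iota σ : ↥Co0) * (iota τ : ↥Co0) := by
  rw [map_mul, Subgroup.coe_mul]

/-- A relation of an element fixing the coordinate vector descends to its permutation part. -/
theorem mono_rel {σ τ₁ τ₂ : ↥Spor.M23} {S : Finset GolayPt} {hS : Leech.InC S}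
    (h : signCo S hS * (iota σ : ↥Co0) * (iota τ₁ : ↥Co0) = (iota τ₂ : ↥Co0) * (signCo S hS * (iota σ : ↥Co0))) :
    σ * τ₁ = τ₂ * σ ∧ S.image τ₂.1 = S := by
  rw [← mul_assoc (iota τ₂ : ↥Co0), iota_val τ₂, perm_sign_conj τ₂.2.1 hS, mul_assoc, mul_assoc,
    ← iota_val τ₂, ← iota_coe_mul, ← iota_coe_mul, iota_val, iota_val] at h
  obtain ⟨h1, h2⟩ := sign_perm_unique _ _ _ _ h
  exact ⟨Subtype.ext h1, h2.symm⟩

theorem cycle_set {S : Finset GolayPt} {p : ℕ} (hv : validP p = true) (hi : S.image (toPerm p) = S)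
    {i : GolayPt} (hiS : i ∈ S) : ∀ k, (appPt p)^[k] i ∈ S
  | 0 => hiS
  | k + 1 => by
    rw [Function.iterate_succ_apply', ← toPerm_apply hv, ← hi]
    exact Finset.mem_image_of_mem _ (cycle_set hv hi hiS k)

theorem inv_word_a {S : Finset GolayPt} (hS : Leech.InC S) (hn : none ∉ S)
    (hi : S.image (toPerm m23Out.a) = S) : S = ∅ := by
  by_contra hne
  obtain ⟨i, hiS⟩ := Finset.nonempty_iff_ne_empty.2 hne
  have hv := valid_of_inM24 a_inM24.1
  have hin : i ≠ none := fun h => hn (h ▸ hiS)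
  obtain ⟨k, hk⟩ := (cycle_a i).resolve_left hin
  have hper : (appPt m23Out.a)^[23] (some 0) = some 0 := by decide +kernel
  have h0 : some 0 ∈ S := by
    have hlt := k.isLt
    have := cycle_set hv hi hiS (46 - k.val)
    rw [← hk, ← Function.iterate_add_apply, show 46 - k.val + k.val = 23 + 23 by omega,
      Function.iterate_add_apply, hper, hper] at this
    exact this
  have hall : S = Finset.univ.erase none := by
    ext j
    simp only [Finset.mem_erase, Finset.mem_univ, and_true]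
    refine ⟨fun h e => hn (e ▸ h), fun hj => ?_⟩
    obtain ⟨l, hl⟩ := (cycle_a j).resolve_left hj
    exact hl ▸ cycle_set hv hi h0 l
  have hbad : inCode (maskOf (Finset.univ.erase (none : GolayPt))) = false := by decide +kernel
  rw [← hall, mem_supports_iff_inCode.1 hS] at hbad
  exact Bool.noConfusion hbad

/-- The elements inducing the square on the element of order 23. -/
theorem normaliser_a1 (x : Spor.Co1) (hx : x * piQ A0 = piQ A0 ^ 2 * x) :
    ∃ j : ℕ, piQ A0 ^ j * x = piQ B0 * piQ A0 ^ j := by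
  obtain ⟨g, rfl⟩ := QuotientGroup.mk'_surjective (Subgroup.center ↥Co0) x
  change piQ g * piQ A0 = piQ A0 ^ 2 * piQ g at hx
  rw [← map_pow] at hx
  have hpA2 : (A0 ^ 2) ^ 23 = 1 := by rw [← pow_mul, mul_comm, pow_mul, A0_pow, one_pow]
  have hrel : g * A0 = A0 ^ 2 * g := lift_rel (by decide) A0_pow hpA2 hx
  set y := ap g (e8 none)
  have hy : y ∈ leechLattice := ap_mem g (e8_mem none)
  have h2 : ap (A0 ^ 2) y = y := fixed_of_rel0 hrel (e8_mem none) e8_A
  have h24 : A0 = (A0 ^ 2) ^ 12 := by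
    rw [← pow_mul, show 2 * 12 = 23 + 1 by norm_num, pow_succ, A0_pow, one_mul]
  have h1 : ap A0 y = y := by rw [h24]; exact pow_fix0 hy h2 12
  obtain ⟨g', hg', he⟩ : ∃ g', piQ g' = piQ g ∧ ap g' (e8 none) = e8 none := by
    rcases fixed_a0 hy ((ap_norm g (e8_mem none)).trans (e8_norm none)) h1 with h | h
    · exact ⟨g, rfl, h⟩
    · refine ⟨negOne * g, by rw [map_mul, piQ_negOne, one_mul], ?_⟩
      rw [ap_mul _ _ (e8_mem none), ap_negOne (ap_mem g (e8_mem none))]
      exact neg_eq_iff_eq_neg.2 h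
  rw [← hg'] at hx ⊢
  have hrel' : g' * A0 = A0 ^ 2 * g' := lift_rel (by decide) A0_pow hpA2 hx
  obtain ⟨σ, S, hS, hnS, rfl⟩ := exists_mono he
  have hh : signCo S hS * (iota σ : ↥Co0) * (iota m23OutHyp.A : ↥Co0) =
      (iota (m23OutHyp.A ^ 2) : ↥Co0) * (signCo S hS * (iota σ : ↥Co0)) := by
    rw [map_pow, Subgroup.coe_pow]; exact hrel'
  obtain ⟨hσ, himg⟩ := mono_rel hh
  have hi1 : S.image (toPerm m23Out.a) = S := by
    have hfix : ∀ n : ℕ, S.image ((m23OutHyp.A ^ 2) ^ n : ↥Spor.M23).1 = S := by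
      intro n
      induction n with
      | zero => rw [pow_zero, OneMemClass.coe_one, Equiv.Perm.coe_one, Finset.image_id]
      | succ n ih => rw [pow_succ, Subgroup.coe_mul, Equiv.Perm.coe_mul, ← Finset.image_image, himg, ih]
    have := hfix 12
    rwa [← pow_mul, show 2 * 12 = 23 + 1 by norm_num, pow_succ, a_pow23, one_mul] at this
  have hS0 := inv_word_a hS hnS hi1
  subst hS0
  rw [signCo_empty, one_mul]
  obtain ⟨j, hj⟩ := normaliser_a (iota σ) (by rw [gA, ← map_mul, ← map_pow, ← map_mul, hσ])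
  refine ⟨j, ?_⟩
  rw [← map_pow, ← map_mul, ← map_mul]
  exact congrArg piQ (by
    show A0 ^ j * (iota σ : ↥Co0) = B0 * A0 ^ j
    rw [A0, B0, ← Subgroup.coe_pow, ← Subgroup.coe_mul, hj, Subgroup.coe_mul])

theorem x_comm : xWords.all (fun w => uOk w && uEqB (w ++ [lB]) ([lB] ++ w)) = true := by decide +kernel

theorem xWords_ok {w : List Ltr} (hw : w ∈ xWords) : uOk w = true :=
  ((Bool.and_eq_true _ _).mp (List.all_eq_true.1 x_comm w hw)).1

theorem x_comm_b {w : List Ltr} (hw : w ∈ xWords) : piQ (uEl w) * piQ B0 = piQ B0 * piQ (uEl w) := by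
  have hb : uOk [lB] = true := by simp [uOk, letters_ok.2.1]
  have h := ((Bool.and_eq_true _ _).mp (List.all_eq_true.1 x_comm w hw)).2
  have := (piQ_word (uOk_append (xWords_ok hw) hb) (uOk_append hb (xWords_ok hw))).2 h
  rwa [uEl_append, uEl_append, uEl_single, lB_el, map_mul, map_mul] at this

theorem piQ_inv_word {w : List Ltr} (hw : w ∈ rWords) : piQ (uEl w.reverse) * piQ (uEl w) = 1 := by
  have h : ∀ w ∈ rWords, uOk w.reverse = true ∧ uOk w = true ∧ uEqB (w.reverse ++ w) [] = true := by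
    decide +kernel
  obtain ⟨h1, h2, h3⟩ := h w hw
  rw [← map_mul, ← uEl_append, (piQ_word (uOk_append h1 h2) (show uOk [] = true from rfl)).2 h3]
  exact map_one piQ

theorem r_mem : ∀ w ∈ rWords, w ∈ xWords ∧ w ++ [Ltr.s] ∈ xWords ∧ w.reverse ∈ xWords := by
  intro w hw
  simp only [rWords, List.mem_cons, List.not_mem_nil, or_false] at hw
  rcases hw with rfl | rfl | rfl <;> simp [xWords]

/-- The centraliser of the element of order 11. -/
theorem centraliser_b1 (x : Spor.Co1) (hx : x * piQ B0 = piQ B0 * x) :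
    ∃ w ∈ xWords, ∃ i : ℕ, x = piQ (uEl w) * piQ B0 ^ i := by
  obtain ⟨g, rfl⟩ := QuotientGroup.mk'_surjective (Subgroup.center ↥Co0) x
  change piQ g * piQ B0 = piQ B0 * piQ g at hx
  have hrel : g * B0 = B0 * g := lift_rel (by decide) B0_pow B0_pow hx
  obtain ⟨w, hw, k, hk, hy⟩ := fixed_b (ap_mem g (e8_mem none)) ((ap_norm g (e8_mem none)).trans (e8_norm none))
    (fixed_of_rel0 hrel (e8_mem none) e8_B)
  have hwr := (r_mem w hw).2.2
  set r := uEl w.reverse
  set g1 := r * g with hg1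
  have hk24 : k < 24 := by omega
  have hl : vecOf (e8L k) = e8 (ptN k) := by rw [← e8L_eq, idx_ptN hk24]
  have h1 : ap g1 (e8 none) = e8 (ptN k) ∨ ap g1 (e8 none) = -e8 (ptN k) := by
    have key : ap r (vecOf (uL w (e8L k))) = e8 (ptN k) ∨ ap r (vecOf (uL w (e8L k))) = -e8 (ptN k) := by
      have hm : vecOf (e8L k) ∈ leechLattice := hl ▸ e8_mem _
      rw [← ap_uEl (xWords_ok (r_mem w hw).1) hm, ← ap_mul _ _ hm, hl]
      rcases piQ_eq.1 (show piQ (r * uEl w) = piQ 1 by rw [map_mul, piQ_inv_word hw, map_one]) with e | e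
      · left; rw [e, ap_one]
      · right; rw [e, mul_one, ap_negOne (e8_mem _)]
    have hmem : vecOf (uL w (e8L k)) ∈ leechLattice :=
      ap_uEl (xWords_ok (r_mem w hw).1) (hl ▸ e8_mem _) ▸ ap_mem _ (hl ▸ e8_mem _)
    rw [hg1, ap_mul _ _ (e8_mem none)]
    rcases hy with hy | hy <;> rw [hy]
    · exact key
    · rw [ap_neg r hmem]
      rcases key with e | e <;> rw [e]
      · exact Or.inr rfl
      · exact Or.inl (neg_neg _)
  obtain ⟨g', hg', he⟩ : ∃ g', piQ g' = piQ g1 ∧ ap g' (e8 none) = e8 (ptN k) := by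
    rcases h1 with h | h
    · exact ⟨g1, rfl, h⟩
    · refine ⟨negOne * g1, by rw [map_mul, piQ_negOne, one_mul], ?_⟩
      rw [ap_mul _ _ (e8_mem none), ap_negOne (ap_mem _ (e8_mem none)), h, neg_neg]
  have hx' : piQ g' * piQ B0 = piQ B0 * piQ g' := by
    rw [hg', hg1, map_mul, mul_assoc, hx, ← mul_assoc, x_comm_b hwr, mul_assoc]
  have hrel' : g' * B0 = B0 * g' := lift_rel (by decide) B0_pow B0_pow hx'
  have hgx : piQ g = piQ (uEl w) * piQ g' := by
    have hinv : piQ (uEl w) = (piQ r)⁻¹ := eq_inv_of_mul_eq_one_right (piQ_inv_word hw)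
    rw [hg', hg1, map_mul, hinv, inv_mul_cancel_left]
  rcases hk with rfl | rfl
  · have hn : ptN 23 = none := by decide +kernel
    rw [hn] at he
    obtain ⟨σ, S, hS, hnS, rfl⟩ := exists_mono he
    obtain ⟨hσ, himg⟩ := mono_rel (τ₁ := m23OutHyp.B) (τ₂ := m23OutHyp.B) hrel'
    obtain ⟨i, rfl⟩ := centraliser_b_M23 σ hσ
    have hi : (iota (m23OutHyp.B ^ i) : ↥Co0) = B0 ^ i := by rw [map_pow, Subgroup.coe_pow]
    rcases inv_word hS hnS himg with rfl | rfl
    · refine ⟨w, (r_mem w hw).1, i, ?_⟩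
      rw [← map_pow]
      exact hgx.trans (by rw [signCo_empty, one_mul, hi])
    · refine ⟨w ++ [Ltr.s], (r_mem w hw).2.1, i, ?_⟩
      rw [← map_pow]
      refine hgx.trans ?_
      rw [hi, ← map_mul, ← map_mul, uEl_append, uEl_single, mul_assoc]
      rfl
  · exfalso
    have h0 : ptN 0 = some 0 := by decide +kernel
    rw [h0] at he
    have hf : g' ∈ frame := mem_frame_of_eq (q := some 0) (Or.inl he)
    have hB : B0 ∈ frame := by rw [B0, gB_val]; exact permCo_mem_frame _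
    have hcomm : frameHom ⟨g', hf⟩ * frameHom ⟨B0, hB⟩ = frameHom ⟨B0, hB⟩ * frameHom ⟨g', hf⟩ := by
      rw [← map_mul, ← map_mul]; exact congrArg _ (Subtype.ext hrel')
    have hfb : (frameHom ⟨B0, hB⟩ : Equiv.Perm GolayPt) = toPerm m23Out.b := by
      have : (⟨B0, hB⟩ : ↥frame) = ⟨permCo (toPerm m23Out.b) (toPerm_mem_M24 a_inM24.2), permCo_mem_frame _⟩ :=
        Subtype.ext gB_val
      rw [this, frameHom_permCo]
    set σ := (frameHom ⟨g', hf⟩ : Equiv.Perm GolayPt) with hσ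
    refine no_swap (frameHom ⟨g', hf⟩).2 (fun j => ?_) ?_
    · have := congrArg (fun f : ↥M24 => (f : Equiv.Perm GolayPt) j) hcomm
      simp only [Subgroup.coe_mul, Equiv.Perm.mul_apply, hfb, ← hσ] at this
      rwa [toPerm_apply (valid_of_inM24 a_inM24.2), toPerm_apply (valid_of_inM24 a_inM24.2)] at this
    · obtain ⟨S, -, happ⟩ := frameHom_spec ⟨g', hf⟩
      have h2 := congrFun (he.symm.trans (happ _ (e8_mem none))) (σ none)
      simp only [mono, ← hσ, e8, Equiv.symm_apply_apply, if_true] at h2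
      by_contra hne
      rw [if_neg hne] at h2
      split at h2 <;> omega

end

end Cfsg.Agent.LeechCount.Co1Out
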