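import Cfsg.Agent.Lib.LeechCount.Co1Out.Centraliser

/-!
The quotient by the centre is generated by the Mathieu group, one element of the stabiliser of a norm
48 vector outside it and one sign change.
-/

set_option autoImplicit false

namespace Cfsg.Agent.LeechCount.Co1Out

open Cfsg Cfsg.Agent.Leech Cfsg.Agent.Golay24 Cfsg.Agent.LeechCount.Co3Rank Cfsg.Agent.LeechCount.Co3Out
open scoped Pointwise symmDiff

noncomputable section

attribute [local irreducible] normFS dotFS

/-- The five generators. -/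
def K : Subgroup Spor.Co1 := Subgroup.closure {piQ A0, piQ B0, piQ C0, piQ dEl, piQ sEl}

/-- Their preimage. -/
def K0 : Subgroup ↥Co0 := K.comap piQ

theorem mem_K0 {g : ↥Co0} : g ∈ K0 ↔ piQ g ∈ K := Iff.rfl

theorem negOne_mem_K0 : negOne ∈ K0 := mem_K0.2 (piQ_negOne ▸ K.one_mem)

theorem gens_mem_K0 : A0 ∈ K0 ∧ B0 ∈ K0 ∧ C0 ∈ K0 ∧ dEl ∈ K0 ∧ sEl ∈ K0 := by
  refine ⟨?_, ?_, ?_, ?_, ?_⟩ <;> exact Subgroup.subset_closure (by simp)

theorem G3_le_K0 (g : ↥G3) : (g : ↥Co0) ∈ K0 := by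
  have h : (⊤ : Subgroup ↥G3) ≤ K0.comap G3.subtype := by
    rw [← K3_top, K3, Subgroup.closure_le]
    rintro x (rfl | rfl | rfl | rfl)
    exacts [gens_mem_K0.1, gens_mem_K0.2.1, gens_mem_K0.2.2.1, gens_mem_K0.2.2.2.1]
  exact h (Subgroup.mem_top g)

theorem uEl_mem_K0 : ∀ w : List Ltr, uEl w ∈ K0
  | [] => K0.one_mem
  | s :: w => by
    rw [uEl_cons]
    refine K0.mul_mem ?_ (uEl_mem_K0 w)
    cases s with
    | g t => exact G3_le_K0 _
    | s => exact gens_mem_K0.2.2.2.2

theorem sign_mem_iff {S T : Finset GolayPt} (h : S = T) (hS : Leech.InC S) : signCo S hS = signCo T (h ▸ hS) := by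
  subst h; rfl

/-- The sign change of a mask lies in the subgroup. -/
def SignIn (m : ℕ) : Prop := ∃ h : Leech.InC (Golay24.setOf m), signCo (Golay24.setOf m) h ∈ K0

theorem signCo_univ (h : Leech.InC Finset.univ) : signCo Finset.univ h = negOne := ext_ap fun x hx => by
  rw [ap_signCo_mono h hx, ap_negOne hx]
  funext i; simp [mono, Equiv.Perm.one_def]

theorem signIn_univ : SignIn 16777215 := by
  have e : Golay24.setOf 16777215 = Finset.univ := by decide +kernel
  refine ⟨e ▸ InC_univ, ?_⟩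
  rw [sign_mem_iff e, signCo_univ]; exact negOne_mem_K0

theorem signIn_img {m : ℕ} (hm : SignIn m) : SignIn (img m23Out.a m) := by
  obtain ⟨h, hK⟩ := hm
  have hσ := toPerm_mem_M24 a_inM24.1
  have e : (Golay24.setOf m).image (toPerm m23Out.a) = Golay24.setOf (img m23Out.a m) :=
    smul_setOf (valid_of_inM24 a_inM24.1) m
  refine ⟨e ▸ (M24_map hσ _).2 h, ?_⟩
  have h2 := perm_sign_conj hσ h
  rw [← sign_mem_iff e ((M24_map hσ _).2 h), ← mul_inv_eq_iff_eq_mul.2 h2]
  have hA : permCo (toPerm m23Out.a) hσ ∈ K0 := gA_val ▸ gens_mem_K0.1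
  exact K0.mul_mem (K0.mul_mem hA hK) (K0.inv_mem hA)

theorem signIn_xor {a b : ℕ} (ha : SignIn a) (hb : SignIn b) : SignIn (a ^^^ b) := by
  obtain ⟨h1, k1⟩ := ha
  obtain ⟨h2, k2⟩ := hb
  have e : Golay24.setOf (a ^^^ b) = Golay24.setOf a ∆ Golay24.setOf b := by
    ext x
    simp only [mem_setOf, Finset.mem_symmDiff, Nat.testBit_xor]
    cases a.testBit (idx x) <;> cases b.testBit (idx x) <;> simp
  refine ⟨e ▸ InC_symmDiff h1 h2, ?_⟩
  rw [signCo_mul h1 h2 _ e]; exact K0.mul_mem k1 k2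

theorem signIn_zero : SignIn 0 := by
  have := signIn_xor signIn_univ signIn_univ
  rwa [Nat.xor_self] at this

/-- The masks used to generate the code. -/
def genMask (t : ℕ) : ℕ := if t < 23 then (img m23Out.a)^[t] sgnD else 16777215

theorem signIn_gen (t : ℕ) : SignIn (genMask t) := by
  unfold genMask
  split
  · clear * -
    induction t with
    | zero => exact ⟨sgnD_inC, gens_mem_K0.2.2.2.2⟩
    | succ n ih => rw [Function.iterate_succ_apply']; exact signIn_img ih
  · exact signIn_univ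

/-- The basis as combinations of the generating masks. -/
def basisExpr : List (List ℕ) :=
  [[23, 3, 4, 6, 7], [23, 1, 2, 4, 5, 6, 8, 10], [1, 2, 3, 4, 5, 6, 7, 9, 10], [1, 3, 4, 8, 10],
    [0, 1, 5, 8, 9, 10], [23, 0, 2, 4, 10], [23, 0, 1, 2, 6, 7, 9, 10], [23, 0, 3, 4, 6, 7, 9, 10],
    [0, 2, 3, 5, 8, 10], [23, 1, 2, 3, 4, 7, 8], [0, 1, 2, 4, 5, 7, 8, 9, 10], [23, 1, 2, 5, 6, 9, 10]]

/-- The combination of a list of generating masks. -/
def combMask : List ℕ → ℕ
  | [] => 0
  | t :: l => genMask t ^^^ combMask l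

theorem basisExpr_ok : basisMasks = basisExpr.map combMask := by decide +kernel

theorem signIn_comb : ∀ l : List ℕ, SignIn (combMask l)
  | [] => signIn_zero
  | t :: l => signIn_xor (signIn_gen t) (signIn_comb l)

theorem signIn_span : ∀ l : List ℕ, (∀ m ∈ l, SignIn m) → ∀ m ∈ spanList l, SignIn m
  | [], _, m, hm => by simp only [spanList, List.mem_singleton] at hm; exact hm ▸ signIn_zero
  | b :: l, h, m, hm => by
    have ih := signIn_span l fun m hm => h m (List.mem_cons_of_mem _ hm)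
    simp only [spanList, List.mem_append, List.mem_map] at hm
    rcases hm with hm | ⟨r, hr, rfl⟩
    · exact ih m hm
    · exact signIn_xor (h b (List.mem_cons_self ..)) (ih r hr)

theorem signCo_mem_K0 {S : Finset GolayPt} (hS : Leech.InC S) : signCo S hS ∈ K0 := by
  obtain ⟨h, hK⟩ := signIn_span basisMasks (fun m hm => by
    rw [basisExpr_ok] at hm
    obtain ⟨l, -, rfl⟩ := List.mem_map.1 hm
    exact signIn_comb l) (maskOf S) (mem_supports_iff.1 hS)
  rwa [sign_mem_iff (setOf_maskOf S) h] at hK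

/-- The inverse of the first generator as a letter. -/
def lAi : Ltr := .g (.perm aInv m23Out.a)

/-- A word moving the coordinate vector to another one. -/
def wMove : List Ltr :=
  [.g .d, .s, lA, .g .d, .s, lAi, .g .d, lA, .s, .g .d, lAi, .s, .g .d]

theorem wMove_ok : uOk wMove = true ∧ uL wMove (e8L 23) = negL (e8L 18) ∧ ptN 18 ≠ (none : GolayPt) ∧
    ptN 23 = (none : GolayPt) := by decide +kernel

theorem permCo_mem_K0 {σ : Equiv.Perm GolayPt} (hσ : σ ∈ M24) : permCo σ hσ ∈ K0 := by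
  let H : Subgroup ↥M24 := K0.comap Leech.permHom
  have hstab : ∀ τ : ↥M24, τ.1 none = none → τ ∈ H := fun τ hτ => by
    show permCo τ.1 τ.2 ∈ K0
    have := G3_le_K0 (iota ⟨τ.1, τ.2, hτ⟩)
    rwa [iota_val] at this
  suffices h : (⟨σ, hσ⟩ : ↥M24) ∈ H from h
  -- one element moving the extra point
  obtain ⟨hok, hL, h18, h23⟩ := wMove_ok
  have he : ap (uEl wMove) (e8 none) = -e8 (ptN 18) := by
    have h1 : vecOf (e8L 23) = e8 none := by rw [← h23, ← e8L_eq, idx_ptN (by norm_num : 23 < 24)]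
    have h2 : vecOf (e8L 18) = e8 (ptN 18) := by rw [← e8L_eq, idx_ptN (by norm_num : 18 < 24)]
    rw [← h1, ap_uEl hok (h1 ▸ e8_mem none), hL, vecOf_negL, h2]
  have hf : uEl wMove ∈ frame := mem_frame_of_eq (q := ptN 18) (Or.inr he)
  obtain ⟨S, hS, happ⟩ := frameHom_spec ⟨uEl wMove, hf⟩
  set π := frameHom ⟨uEl wMove, hf⟩ with hπ
  have hπH : π ∈ H := by
    show permCo π.1 π.2 ∈ K0
    have e : permCo π.1 π.2 = signCo S hS * uEl wMove := ext_e8 fun i => by
      rw [ap_mul _ _ (e8_mem i)]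
      funext j
      rw [ap_signCo hS (ap_mem _ (e8_mem i)), happ _ (e8_mem i), ap_permCo _ (e8_mem i)]
      simp only [mono]
      split <;> simp
    rw [e]; exact K0.mul_mem (signCo_mem_K0 hS) (uEl_mem_K0 _)
  have hπn : π.1 none = ptN 18 := by
    have h2 := congrFun (he.symm.trans (happ _ (e8_mem none))) (π.1 none)
    simp only [mono, e8, Pi.neg_apply, Equiv.symm_apply_apply, if_true] at h2
    by_contra hne
    rw [if_neg hne] at h2
    split at h2 <;> omega
  -- transitivity
  let a : ↥M24 := ⟨toPerm m23Out.a, toPerm_mem_M24 a_inM24.1⟩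
  have haH : a ∈ H := hstab a (by
    show toPerm m23Out.a none = none
    rw [toPerm_apply (valid_of_inM24 a_inM24.1)]; decide +kernel)
  have htrans : ∀ x : GolayPt, ∃ τ ∈ H, τ.1 none = x := by
    intro x
    rcases cycle_a x with rfl | ⟨k, hk⟩
    · exact ⟨1, H.one_mem, rfl⟩
    obtain ⟨l, hl⟩ := (cycle_a (ptN 18)).resolve_left h18
    have hap : ∀ n i, (a ^ n).1 i = (appPt m23Out.a)^[n] i := fun n i => by
      induction n generalizing i with
      | zero => rfl
      | succ n ih =>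
        rw [pow_succ, Subgroup.coe_mul, Equiv.Perm.mul_apply, ih, Function.iterate_succ_apply]
        exact congrArg _ (toPerm_apply (valid_of_inM24 a_inM24.1) i)
    have hper : (appPt m23Out.a)^[23] (some 0) = some 0 := by decide +kernel
    have hlt := l.isLt
    refine ⟨a ^ (k.val + (46 - l.val)) * π, H.mul_mem (H.pow_mem haH _) hπH, ?_⟩
    rw [Subgroup.coe_mul, Equiv.Perm.mul_apply, hπn, hap, ← hl, ← Function.iterate_add_apply,
      show k.val + (46 - l.val) + l.val = k.val + (23 + 23) by omega, Function.iterate_add_apply,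
      Function.iterate_add_apply, hper, hper, hk]
  obtain ⟨τ, hτ, hτn⟩ := htrans (σ none)
  have hm : τ⁻¹ * ⟨σ, hσ⟩ ∈ H := hstab _ (by
    show τ.1⁻¹ (σ none) = none
    rw [← hτn, Equiv.Perm.inv_def, Equiv.symm_apply_apply])
  simpa using H.mul_mem hτ hm

theorem frame_le_K0 : frame ≤ K0 := fun g hg => by
  obtain ⟨S, hS, happ⟩ := frameHom_spec ⟨g, hg⟩
  have e : g = signCo S hS * permCo (frameHom ⟨g, hg⟩).1 (frameHom ⟨g, hg⟩).2 := ext_e8 fun i => by
    rw [happ _ (e8_mem i), ap_mul _ _ (e8_mem i)]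
    funext j
    rw [ap_signCo hS (ap_mem _ (e8_mem i)), ap_permCo _ (e8_mem i)]
    rfl
  rw [e]; exact K0.mul_mem (signCo_mem_K0 hS) (permCo_mem_K0 _)

theorem d_not_frame : dEl ∉ frame := fun h => by
  rw [mem_frame] at h
  obtain ⟨q, hq⟩ := cross_std (ap_mem dEl (e8_mem none)) ((ap_norm dEl (e8_mem none)).trans (e8_norm none)) h
  have h4 : dFun (e8 none) none = 4 := by decide +kernel
  rw [ap_dEl (e8_mem none)] at hq
  rcases hq with hq | hq <;> rw [hq] at h4 <;> simp only [e8, Pi.neg_apply] at h4 <;> split at h4 <;> omega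

theorem K_top : K = ⊤ := by
  have h : K0 = ⊤ := isCoatom_frame.2 K0
    (lt_of_le_of_ne frame_le_K0 fun e => d_not_frame (e ▸ gens_mem_K0.2.2.2.1))
  exact Subgroup.comap_injective (QuotientGroup.mk'_surjective (Subgroup.center ↥Co0)) (h.trans (Subgroup.comap_top piQ).symm)

end

end Cfsg.Agent.LeechCount.Co1Out
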