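import Cfsg.Agent.Lib.LeechCount.Co1Out.Gen

/-!
Every automorphism of the quotient by the centre is inner.
-/

set_option autoImplicit false

namespace Cfsg.Agent.LeechCount.Co1Out

open Cfsg Cfsg.Agent.Leech Cfsg.Agent.Golay24 Cfsg.Agent.LeechCount.Co3Rank Cfsg.Agent.LeechCount.Co3Out

noncomputable section

attribute [local irreducible] normFS dotFS

theorem card_Co1 : Nat.card Spor.Co1 = 4157776806543360000 := isCo1_quot.2

instance finite_Co1 : Finite Spor.Co1 := Nat.finite_of_card_ne_zero (by rw [card_Co1]; norm_num)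

/-- The Mathieu group inside the quotient. -/
def iota1 : ↥Spor.M23 →* Spor.Co1 := piQ.comp (G3.subtype.comp iota)

theorem iota1_injective : Function.Injective iota1 := fun σ τ h => by
  rcases piQ_eq.1 (show piQ (iota σ : ↥Co0) = piQ (iota τ : ↥Co0) from h) with e | e
  · exact iota_injective (Subtype.ext e)
  · exfalso
    have h1 : ap (iota σ : ↥Co0) (e8 none) = e8 none := e8_fixed σ
    rw [e, ap_mul _ _ (e8_mem none), ap_negOne (ap_mem _ (e8_mem none)), e8_fixed τ] at h1
    have h2 := congrFun h1 none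
    simp [e8] at h2

theorem range1_eq : iota1.range = Subgroup.closure ({piQ A0, piQ B0, piQ C0} : Set Spor.Co1) := by
  rw [MonoidHom.range_eq_map, ← m23OutHyp.gen_top, MonoidHom.map_closure]
  congr 1
  simp only [Set.image_insert_eq, Set.image_singleton]
  rfl

theorem rel_a : piQ B0 * piQ A0 = piQ A0 ^ 2 * piQ B0 := by
  rw [← map_pow, ← map_mul, ← map_mul, A0, B0, ← Subgroup.coe_pow, ← Subgroup.coe_mul, gA_rel,
    Subgroup.coe_mul]

theorem rel_b : piQ C0 * piQ B0 = piQ B0 ^ 3 * piQ C0 := by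
  rw [← map_pow, ← map_mul, ← map_mul, C0, B0, ← Subgroup.coe_pow, ← Subgroup.coe_mul, gB_rel,
    Subgroup.coe_mul]

theorem order_a : orderOf (piQ A0) = 23 := by
  have h : orderOf m23OutHyp.A = 23 := by rw [(outHyp_rels m23OutHyp).1]; rfl
  rw [show piQ A0 = iota1 m23OutHyp.A from rfl, orderOf_injective iota1 iota1_injective, h]

theorem b1_pow : piQ B0 ^ 11 = 1 := by rw [← map_pow, B0_pow, map_one]

theorem b1_pow_mod (i : ℕ) : piQ B0 ^ i = piQ B0 ^ (i % 11) := by
  conv_lhs => rw [← Nat.div_add_mod i 11, pow_add, pow_mul, b1_pow, one_pow, one_mul]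

theorem bc1_pow5 (i : ℕ) : (piQ B0 ^ i * piQ C0) ^ 5 = 1 := by
  rw [← map_pow, ← map_mul, ← map_pow, B0, C0, ← Subgroup.coe_pow, ← Subgroup.coe_mul, ← Subgroup.coe_pow,
    bc_pow5, Subgroup.coe_one, map_one]

theorem x_facts : xWords.all (fun w => uEqB (w ++ [lC]) ([lC] ++ w) &&
    (!uEqB (uPow w 5) [] || uEqB w [])) = true := by decide +kernel

theorem x_comm_c {w : List Ltr} (hw : w ∈ xWords) : piQ (uEl w) * piQ C0 = piQ C0 * piQ (uEl w) := by
  have hc : uOk [lC] = true := by simp [uOk, letters_ok.2.2]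
  have h := ((Bool.and_eq_true _ _).mp (List.all_eq_true.1 x_facts w hw)).1
  have := (piQ_word (uOk_append (xWords_ok hw) hc) (uOk_append hc (xWords_ok hw))).2 h
  rwa [uEl_append, uEl_append, uEl_single, lC_el, map_mul, map_mul] at this

theorem word_one {w : List Ltr} (hw : uOk w = true) : piQ (uEl w) = 1 ↔ uEqB w [] = true := by
  rw [← piQ_word hw (show uOk [] = true from rfl)]
  exact Eq.congr_right (map_one piQ).symm

theorem x_pow5 {w : List Ltr} (hw : w ∈ xWords) (h : piQ (uEl w) ^ 5 = 1) : piQ (uEl w) = 1 := by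
  rw [← map_pow, ← uEl_pow, word_one (uOk_pow (xWords_ok hw) 5)] at h
  have h2 := ((Bool.and_eq_true _ _).mp (List.all_eq_true.1 x_facts w hw)).2
  rw [h] at h2
  exact (word_one (xWords_ok hw)).2 (by simpa using h2)

/-- The elements inducing the cube on the element of order 11. -/
theorem normaliser_b1 (g : Spor.Co1) (hg : g * piQ B0 = piQ B0 ^ 3 * g) :
    ∃ w ∈ xWords, ∃ i < 11, g = piQ (uEl w) * piQ B0 ^ i * piQ C0 := by
  set b := piQ B0
  set c := piQ C0
  have hs : b = (b ^ 3) ^ 4 := by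
    rw [← pow_mul, show 3 * 4 = 11 + 1 by norm_num, pow_succ, b1_pow, one_mul]
  have h1 : c⁻¹ * b = b ^ 4 * c⁻¹ := by
    have e : c * b ^ 4 * c⁻¹ = b := by
      rw [← conj_pow, show c * b * c⁻¹ = b ^ 3 by rw [rel_b, mul_inv_cancel_right], ← hs]
    calc c⁻¹ * b = c⁻¹ * (c * b ^ 4 * c⁻¹) := by rw [e]
      _ = b ^ 4 * c⁻¹ := by group
  have h2 : g * b ^ 4 = b * g := by
    have e : g * b * g⁻¹ = b ^ 3 := by rw [hg, mul_inv_cancel_right]
    calc g * b ^ 4 = g * b ^ 4 * g⁻¹ * g := by group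
      _ = (g * b * g⁻¹) ^ 4 * g := by rw [conj_pow]
      _ = b * g := by rw [e, ← hs]
  obtain ⟨w, hw, i, hi⟩ := centraliser_b1 (g * c⁻¹) (by rw [mul_assoc, h1, ← mul_assoc, h2, mul_assoc])
  refine ⟨w, hw, i % 11, Nat.mod_lt _ (by norm_num), ?_⟩
  rw [← b1_pow_mod, ← hi, inv_mul_cancel_right]

/-- Words in the three generators. -/
def hWord : List (Fin 3) → List Ltr := List.map fun i => [lA, lB, lC].getD i.val lA

theorem hWord_ok : ∀ h : List (Fin 3), uOk (hWord h) = true
  | [] => rfl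
  | i :: h => by
    have : ([lA, lB, lC].getD i.val lA).ok = true := by
      fin_cases i
      exacts [letters_ok.1, letters_ok.2.1, letters_ok.2.2]
    show (([lA, lB, lC].getD i.val lA).ok && uOk (hWord h)) = true
    rw [this, hWord_ok h]; rfl

theorem hWord_fixed (χ : MulAut Spor.Co1) (ha : χ (piQ A0) = piQ A0) (hb : χ (piQ B0) = piQ B0)
    (hc : χ (piQ C0) = piQ C0) : ∀ h : List (Fin 3), χ (piQ (uEl (hWord h))) = piQ (uEl (hWord h))
  | [] => by rw [show piQ (uEl (hWord [])) = 1 from map_one piQ]; exact map_one χ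
  | i :: h => by
    have : χ (piQ ([lA, lB, lC].getD i.val lA).el) = piQ ([lA, lB, lC].getD i.val lA).el := by
      fin_cases i
      · show χ (piQ lA.el) = piQ lA.el
        rw [lA_el]; exact ha
      · show χ (piQ lB.el) = piQ lB.el
        rw [lB_el]; exact hb
      · show χ (piQ lC.el) = piQ lC.el
        rw [lC_el]; exact hc
    show χ (piQ (uEl (([lA, lB, lC].getD i.val lA) :: hWord h))) = piQ (uEl (([lA, lB, lC].getD i.val lA) :: hWord h))
    rw [uEl_cons, map_mul, map_mul, this, hWord_fixed χ ha hb hc h]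

/-- The checks singling out a fixed involution of the centraliser. -/
def targetB (t : List Ltr) (h : List (Fin 3)) (k : ℕ) : Bool :=
  uOk t && uEqB (t ++ t) [] && !uEqB t [] && uEqB (uPow (t ++ hWord h) k) [] &&
    uEqB (t ++ [lB]) ([lB] ++ t) &&
    xWords.all fun w => uEqB w [] || !uEqB (uPow (w ++ hWord h) k) [] || uEqB w t

theorem x_sq : xWords.all (fun w => uEqB (w ++ w) [] || !uEqB (uPow w 22) []) = true := by decide +kernel

/-- The word for the first involution. -/
def hD : List (Fin 3) := [2, 2, 1, 2, 0, 0, 2, 2, 1, 0, 2, 0, 2, 1, 2]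

/-- The word for the second involution. -/
def hS : List (Fin 3) := [0, 2, 0, 2, 0, 0, 2, 0]

theorem target_d : targetB [.g .d] hD 3 = true := by decide +kernel

theorem target_s : targetB [.s] hS 3 = true := by decide +kernel

theorem target_fixed {t : List Ltr} {h : List (Fin 3)} {k : ℕ} (ht : targetB t h k = true)
    (χ : MulAut Spor.Co1) (ha : χ (piQ A0) = piQ A0) (hb : χ (piQ B0) = piQ B0) (hc0 : χ (piQ C0) = piQ C0) :
    χ (piQ (uEl t)) = piQ (uEl t) := by
  simp only [targetB, Bool.and_eq_true, Bool.not_eq_true'] at ht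
  obtain ⟨⟨⟨⟨⟨hok, hsq⟩, hne⟩, hord⟩, hcomm⟩, hall⟩ := ht
  have hH := hWord_ok h
  have hBok : uOk [lB] = true := by simp [uOk, letters_ok.2.1]
  have hsq' : piQ (uEl t) * piQ (uEl t) = 1 := by
    rw [← map_mul, ← uEl_append]; exact (word_one (uOk_append hok hok)).2 hsq
  have hcomm' : piQ (uEl t) * piQ B0 = piQ B0 * piQ (uEl t) := by
    have := (piQ_word (uOk_append hok hBok) (uOk_append hBok hok)).2 hcomm
    rwa [uEl_append, uEl_append, uEl_single, lB_el, map_mul, map_mul] at this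
  have hord' : (piQ (uEl t) * piQ (uEl (hWord h))) ^ k = 1 := by
    have := (word_one (uOk_pow (uOk_append hok hH) k)).2 hord
    rwa [uEl_pow, map_pow, uEl_append, map_mul] at this
  set y := χ (piQ (uEl t)) with hy
  have y1 : y * piQ B0 = piQ B0 * y := by
    have := congrArg χ hcomm'
    rwa [map_mul, map_mul, hb] at this
  have y2 : y * y = 1 := by rw [hy, ← map_mul, hsq', map_one]
  have y3 : (y * piQ (uEl (hWord h))) ^ k = 1 := by
    have := congrArg χ hord'
    rwa [map_pow, map_mul, hWord_fixed χ ha hb hc0 h, map_one] at this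
  have y0 : y ≠ 1 := fun e => by
    rw [hy, MulEquiv.map_eq_one_iff, word_one hok, hne] at e
    exact Bool.false_ne_true e
  obtain ⟨w, hw, i, hi⟩ := centraliser_b1 y y1
  have hwok := xWords_ok hw
  have hc : Commute (piQ (uEl w)) (piQ B0 ^ i) := Commute.pow_right (x_comm_b hw) i
  have y11 : y = piQ (uEl w) ^ 11 := by
    have h1 : y ^ 11 = y := by
      rw [show (11 : ℕ) = 2 * 5 + 1 from rfl, pow_succ, pow_mul, pow_two, y2, one_pow, one_mul]
    rw [← h1, hi, hc.mul_pow, ← pow_mul, mul_comm i, pow_mul, b1_pow, one_pow, mul_one]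
  have h22 : uEqB (uPow w 22) [] = true := by
    rw [← word_one (uOk_pow hwok 22), uEl_pow, map_pow, show (22 : ℕ) = 11 * 2 from rfl, pow_mul, ← y11,
      pow_two, y2]
  have hall' := List.all_eq_true.1 hall w hw
  have hrest := hall'
  have hw2 : uEqB (w ++ w) [] = true := by
    have := List.all_eq_true.1 x_sq w hw
    simpa only [h22, Bool.not_true, Bool.or_false] using this
  have hyw : y = piQ (uEl w) := by
    have h2 : piQ (uEl w) ^ 2 = 1 := by
      rw [pow_two, ← map_mul, ← uEl_append]; exact (word_one (uOk_append hwok hwok)).2 hw2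
    rw [y11, show (11 : ℕ) = 2 * 5 + 1 from rfl, pow_succ, pow_mul, h2, one_pow, one_mul]
  have h11 : uEqB w [] = false := by
    rw [← Bool.not_eq_true, ← word_one hwok, ← hyw]; exact y0
  have hk : uEqB (uPow (w ++ hWord h) k) [] = true := by
    rw [← word_one (uOk_pow (uOk_append hwok hH) k), uEl_pow, map_pow, uEl_append, map_mul, ← hyw, y3]
  simp only [h11, hk, Bool.not_true, Bool.false_or] at hrest
  rw [hyw]
  exact (piQ_word hwok hok).2 hrest

/-- Every automorphism is inner. -/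
theorem aut_inner (φ : MulAut Spor.Co1) : φ ∈ Inn Spor.Co1 := by
  have := Fact.mk (show Nat.Prime 23 by norm_num)
  have hfac : (Nat.card Spor.Co1).factorization 23 = 1 :=
    factorization_eq_one (m := 180772904632320000) (by norm_num) (by rw [card_Co1]) (by norm_num)
  obtain ⟨h, kk, -, g, hg, e1, e2, e3⟩ := aut_normal_form (b := piQ B0) (c := piQ C0) (r := 2) (s := 3)
    (ks := [1, 5])
    (L := xWords.flatMap fun w => (List.range 11).map fun i => piQ (uEl w) * piQ B0 ^ i * piQ C0) hfac order_a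
    (fun k h0 hk => (show ∀ k < 23, 0 < k → ∃ i < 11, ∃ kk ∈ ([1, 5] : List ℕ), k * 2 ^ i % 23 = kk % 23 by
      decide +kernel) k hk h0 |>.imp fun i hi => hi.2)
    rel_a normaliser_a1 rel_b
    (fun g hg => by
      obtain ⟨w, hw, i, hi, he⟩ := normaliser_b1 g hg
      exact List.mem_flatMap.2 ⟨w, hw, List.mem_map.2 ⟨i, List.mem_range.2 hi, he.symm⟩⟩) φ
  generalize hχ : MulAut.conj h * φ = χ at e1 e2 e3
  suffices hin : χ ∈ Inn Spor.Co1 by
    have : φ = (MulAut.conj h)⁻¹ * χ := by rw [← hχ, inv_mul_cancel_left]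
    rw [this]
    exact (Inn Spor.Co1).mul_mem ((Inn Spor.Co1).inv_mem ⟨h, rfl⟩) hin
  obtain ⟨w, hw, hgw⟩ := List.mem_flatMap.1 hg
  obtain ⟨i, -, rfl⟩ := List.mem_map.1 hgw
  have hx1 : piQ (uEl w) = 1 := by
    refine x_pow5 hw ?_
    have hc : Commute (piQ (uEl w)) (piQ B0 ^ i * piQ C0) :=
      (Commute.pow_right (x_comm_b hw) i).mul_right (x_comm_c hw)
    have h5 : (piQ (uEl w) * piQ B0 ^ i * piQ C0) ^ 5 = 1 := by
      rw [← e3, ← map_pow, show piQ C0 ^ 5 = 1 by simpa using bc1_pow5 0, map_one]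
    rwa [mul_assoc, hc.mul_pow, bc1_pow5, mul_one] at h5
  rw [hx1, one_mul] at e3
  have hA : piQ A0 ∈ iota1.range := ⟨_, rfl⟩
  have hB : piQ B0 ∈ iota1.range := ⟨_, rfl⟩
  have hC : piQ C0 ∈ iota1.range := ⟨_, rfl⟩
  have hle : iota1.range.map χ.toMonoidHom ≤ iota1.range := by
    conv_lhs => rw [range1_eq, MonoidHom.map_closure]
    rw [Subgroup.closure_le]
    rintro x ⟨y, (rfl | rfl | rfl), rfl⟩
    · show χ _ ∈ iota1.range
      rw [e1]; exact iota1.range.pow_mem hA _
    · show χ _ ∈ iota1.range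
      rw [e2]; exact hB
    · show χ _ ∈ iota1.range
      rw [e3]; exact iota1.range.mul_mem (iota1.range.pow_mem hB _) hC
  have hmap : iota1.range.map χ.toMonoidHom = iota1.range :=
    Subgroup.eq_of_le_of_card_ge hle (le_of_eq (Nat.card_congr (χ.subgroupMap iota1.range).toEquiv))
  let e : ↥Spor.M23 ≃* ↥iota1.range := MonoidHom.ofInjective iota1_injective
  let ρ : MulAut ↥Spor.M23 :=
    (e.trans ((χ.subgroupMap iota1.range).trans (MulEquiv.subgroupCongr hmap))).trans e.symm
  have hρ : ∀ x, iota1 (ρ x) = χ (iota1 x) := fun x =>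
    congrArg Subtype.val (e.apply_symm_apply ((χ.subgroupMap iota1.range).trans (MulEquiv.subgroupCongr hmap) (e x)))
  have hsub : Subsingleton (Cfsg.Out ↥Spor.M23) := (Nat.card_eq_one_iff_unique.1 card_out_M23).1
  obtain ⟨u, hu⟩ : ρ ∈ Inn ↥Spor.M23 := (QuotientGroup.eq_one_iff ρ).1 (Subsingleton.elim _ _)
  set χ' : MulAut Spor.Co1 := (MulAut.conj (iota1 u))⁻¹ * χ with hχ'
  have hfix : ∀ x, χ' (iota1 x) = iota1 x := fun x => by
    show (iota1 u)⁻¹ * χ (iota1 x) * iota1 u = iota1 x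
    rw [← hρ, ← hu, MulAut.conj_apply, map_mul, map_mul, map_inv]
    group
  have ha' : χ' (piQ A0) = piQ A0 := hfix _
  have hb' : χ' (piQ B0) = piQ B0 := hfix _
  have hd : χ' (piQ dEl) = piQ dEl := by
    have := target_fixed target_d χ' ha' hb' (hfix _)
    rwa [uEl_single] at this
  have hs : χ' (piQ sEl) = piQ sEl := by
    have := target_fixed target_s χ' ha' hb' (hfix _)
    rwa [uEl_single] at this
  have hone : χ' = 1 := by
    have := MonoidHom.eq_of_eqOn_dense K_top (f := χ'.toMonoidHom) (g := MonoidHom.id _) (by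
      rintro x (rfl | rfl | rfl | rfl | rfl)
      exacts [ha', hb', hfix _, hd, hs])
    exact MulEquiv.ext fun x => DFunLike.congr_fun this x
  rw [hχ', inv_mul_eq_one] at hone
  exact ⟨iota1 u, hone⟩

theorem card_out : Nat.card (Cfsg.Out Spor.Co1) = 1 := card_out_eq_one aut_inner

end

end Cfsg.Agent.LeechCount.Co1Out
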