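import Cfsg.Agent.Lib.LeechCount.Co3Out.Main
import Cfsg.Agent.Lib.Leech.Co1Simple

/-!
Words in the elements of the stabiliser of a norm 48 vector and one sign change, read in the quotient
of the automorphism group by its centre.
-/

set_option autoImplicit false

namespace Cfsg.Agent.LeechCount.Co1Out

open Cfsg Cfsg.Agent.Leech Cfsg.Agent.Golay24 Cfsg.Agent.LeechCount.Co3Rank Cfsg.Agent.LeechCount.Co3Out

noncomputable section

attribute [local irreducible] normFS dotFS

/-- The dodecad of the sign change. -/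
def sgnD : ℕ := 6612689

/-- The inverse of the first generator. -/
def aInv : ℕ := 974295155924789554371207252871875605

theorem sgnD_inC : Leech.InC (Golay24.setOf sgnD) := mem_supports_iff_inCode.2 (by decide +kernel)

/-- The sign change. -/
def sEl : ↥Co0 := signCo (Golay24.setOf sgnD) sgnD_inC

/-- A letter. -/
inductive Ltr where
  | g (s : Stp)
  | s

/-- Well formed letters. -/
def Ltr.ok : Ltr → Bool
  | .g t => t.ok
  | .s => true

/-- The automorphism of a letter. -/
def Ltr.el : Ltr → ↥Co0
  | .g t => (t.el : ↥Co0)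
  | .s => sEl

/-- Sum over one tetrad. -/
def tsF (lab : List (Fin 6)) (l : List ℤ) (j : Fin 6) : ℤ :=
  (List.zipWith (fun a x => if a = j then x else 0) lab l).sum

/-- The sextet map with the six sums computed once. -/
def xiF (lab : List (Fin 6)) (l : List ℤ) : List ℤ :=
  let ts := [tsF lab l 0, tsF lab l 1, tsF lab l 2, tsF lab l 3, tsF lab l 4, tsF lab l 5]
  List.zipWith (fun a x => if a = 0 then ts.getD a.val 0 / 2 - x else x - ts.getD a.val 0 / 2) lab l

/-- The extra involution on lists. -/
def dF (l : List ℤ) : List ℤ := xiF dLab1 (xiF dLab2 (xiF dLab3 (sgnL dSgn (pL dPermInv l))))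

theorem tsF_eq {lab : List (Fin 6)} (hlab : lab.length = 24) {l : List ℤ} (hl : l.length = 24) (j : Fin 6) :
    tsF lab l j = tsumL lab l j := by
  rw [tsF, tsumL]
  congr 1
  refine List.ext_getElem (by simp [hlab, hl]) fun n h1 h2 => ?_
  simp only [List.getElem_zipWith, List.getElem_map, List.getElem_range]
  rw [List.getD_eq_getElem _ _ (by simp [hlab] at h1 ⊢; omega), List.getD_eq_getElem _ _ (by simp [hl] at h1 ⊢; omega)]

theorem xiF_eq {lab : List (Fin 6)} (hlab : lab.length = 24) {l : List ℤ} (hl : l.length = 24) :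
    xiF lab l = xiL lab l := by
  have hts : ∀ a : Fin 6, [tsF lab l 0, tsF lab l 1, tsF lab l 2, tsF lab l 3, tsF lab l 4, tsF lab l 5].getD a.val 0 =
      tsumL lab l a := by
    intro a
    fin_cases a <;> exact tsF_eq hlab hl _
  simp only [xiF, hts]
  rw [xiL]
  refine List.ext_getElem (by simp [hlab, hl]) fun n h1 h2 => ?_
  simp only [List.getElem_zipWith, List.getElem_map, List.getElem_range]
  rw [List.getD_eq_getElem _ _ (by simp [hlab] at h1 ⊢; omega), List.getD_eq_getElem _ _ (by simp [hl] at h1 ⊢; omega)]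

theorem dF_eq (l : List ℤ) : dF l = dL l := by
  rw [dF, Co3Out.dL_eq, xiF_eq (lab := dLab3) rfl (by simp [sgnL]), xiF_eq (lab := dLab2) rfl (by simp [xiL]),
    xiF_eq (lab := dLab1) rfl (by simp [xiL])]

/-- A letter on lists. -/
def Ltr.onL : Ltr → List ℤ → List ℤ
  | .g (.perm _ q), l => pL q l
  | .g .d, l => dF l
  | .s, l => sgnL sgnD l

/-- The automorphism of a word. -/
def uEl (w : List Ltr) : ↥Co0 := (w.map Ltr.el).prod

/-- Well formed words. -/
def uOk (w : List Ltr) : Bool := w.all Ltr.ok

/-- Small integers packed in one number. -/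
def encL : List ℤ → ℕ
  | [] => 0
  | x :: l => (x + 128).toNat + 256 * encL l

/-- The inverse of packing. -/
def decL (n : ℕ) : List ℤ :=
  (List.range 24).map fun k => Int.subNatNat (Nat.land (Nat.shiftRight n (8 * k)) 255) 128

/-- A list replaced by its evaluated copy. -/
def normL (l : List ℤ) : List ℤ := if decL (encL l) == l then decL (encL l) else l

theorem normL_eq (l : List ℤ) : normL l = l := by
  unfold normL
  split
  · next h => exact eq_of_beq h
  · rfl

/-- A word on lists. -/
def uL : List Ltr → List ℤ → List ℤ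
  | [], l => l
  | s :: w, l => normL (s.onL (uL w l))

theorem Ltr.ap_el {s : Ltr} (hs : s.ok = true) {l : List ℤ} (hl : vecOf l ∈ leechLattice) :
    ap s.el (vecOf l) = vecOf (s.onL l) := by
  cases s with
  | g t =>
    have h : (Ltr.g t).onL l = t.onL l := by
      cases t with
      | perm p q => rfl
      | d => exact dF_eq l
    rw [h]; exact Stp.ap_el hs hl
  | s =>
    funext i
    show ap sEl (vecOf l) i = vecOf (sgnL sgnD l) i
    rw [sEl, ap_signCo sgnD_inC hl, sgnL, vecOf_range]
    simp only [mem_setOf, vecOf]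

theorem uEl_cons (s : Ltr) (w : List Ltr) : uEl (s :: w) = s.el * uEl w := List.prod_cons

theorem uEl_append (v w : List Ltr) : uEl (v ++ w) = uEl v * uEl w := by
  simp [uEl, List.prod_append]

theorem ap_uEl : ∀ {w : List Ltr}, uOk w = true → ∀ {l : List ℤ}, vecOf l ∈ leechLattice →
    ap (uEl w) (vecOf l) = vecOf (uL w l)
  | [], _, l, _ => ap_one _
  | s :: w, hw, l, hl => by
    simp only [uOk, List.all_cons, Bool.and_eq_true] at hw
    rw [uEl_cons, ap_mul _ _ hl, uL, normL_eq, ap_uEl hw.2 hl]
    exact Ltr.ap_el hw.1 (ap_uEl hw.2 hl ▸ ap_mem _ hl)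

/-- A repeated word. -/
def uPow (w : List Ltr) : ℕ → List Ltr
  | 0 => []
  | n + 1 => w ++ uPow w n

theorem uEl_pow (w : List Ltr) : ∀ n, uEl (uPow w n) = uEl w ^ n
  | 0 => rfl
  | n + 1 => by rw [uPow, uEl_append, uEl_pow w n, pow_succ']

theorem uOk_append {v w : List Ltr} (hv : uOk v = true) (hw : uOk w = true) : uOk (v ++ w) = true := by
  simp only [uOk, List.all_append, Bool.and_eq_true]; exact ⟨hv, hw⟩

theorem uOk_pow {w : List Ltr} (hw : uOk w = true) : ∀ n, uOk (uPow w n) = true
  | 0 => rfl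
  | n + 1 => uOk_append hw (uOk_pow hw n)

theorem uL_length (w : List Ltr) {l : List ℤ} (hl : l.length = 24) : (uL w l).length = 24 := by
  cases w with
  | nil => exact hl
  | cons s w =>
    cases s with
    | g t => cases t <;> simp [uL, normL_eq, Ltr.onL, pL, dF_eq, Co3Out.dL_eq, xiL]
    | s => simp [uL, normL_eq, Ltr.onL, sgnL]

/-- Negated list. -/
def negL (l : List ℤ) : List ℤ := l.map fun x => -x

theorem vecOf_negL (l : List ℤ) : vecOf (negL l) = -vecOf l := by
  funext i
  show (l.map fun x => -x).getD (idx i).val 0 = -(l.getD (idx i).val 0)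
  rw [List.getD_eq_getElem?_getD, List.getD_eq_getElem?_getD, List.getElem?_map]
  cases l[(idx i).val]? <;> simp

/-- The quotient map. -/
abbrev piQ : ↥Co0 →* Spor.Co1 := QuotientGroup.mk' (Subgroup.center ↥Co0)

theorem negOne_sq : negOne * negOne = (1 : ↥Co0) := Subtype.ext (Equiv.ext fun v => neg_neg v)

theorem piQ_negOne : piQ negOne = 1 := (QuotientGroup.eq_one_iff _).2 negOne_mem_center

theorem piQ_eq {g h : ↥Co0} : piQ g = piQ h ↔ g = h ∨ g = negOne * h := by
  constructor
  · intro e
    have : g * h⁻¹ ∈ Subgroup.center ↥Co0 :=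
      (QuotientGroup.eq_one_iff _).1 (show piQ (g * h⁻¹) = 1 by rw [map_mul, map_inv, e, mul_inv_cancel])
    rcases center_eq.1 this with e' | e'
    · exact Or.inl (mul_inv_eq_one.1 e')
    · exact Or.inr (mul_inv_eq_iff_eq_mul.1 e')
  · rintro (rfl | rfl)
    · rfl
    · rw [map_mul, piQ_negOne, one_mul]

/-- Equality of two words up to sign. -/
def uEqB (v w : List Ltr) : Bool :=
  ((List.range 24).all fun k => uL v (e8L k) == uL w (e8L k)) ||
    ((List.range 24).all fun k => uL v (e8L k) == negL (uL w (e8L k)))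

theorem piQ_word {v w : List Ltr} (hv : uOk v = true) (hw : uOk w = true) :
    piQ (uEl v) = piQ (uEl w) ↔ uEqB v w = true := by
  rw [piQ_eq, uEqB, Bool.or_eq_true]
  simp only [List.all_eq_true, List.mem_range, beq_iff_eq]
  refine or_congr ⟨fun e k hk => ?_, fun h => ext_e8 fun i => ?_⟩ ⟨fun e k hk => ?_, fun h => ext_e8 fun i => ?_⟩
  · have h1 := ap_uEl hv (e8L_mem (ptN k))
    rw [e, ap_uEl hw (e8L_mem (ptN k)), idx_ptN hk] at h1
    exact vecOf_inj (uL_length v (by simp [e8L])) (uL_length w (by simp [e8L])) h1.symm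
  · rw [← e8L_eq, ap_uEl hv (e8L_mem i), ap_uEl hw (e8L_mem i), h _ (idx i).isLt]
  · have h1 := ap_uEl hv (e8L_mem (ptN k))
    rw [e, ap_mul _ _ (e8L_mem (ptN k)), ap_negOne (ap_mem _ (e8L_mem (ptN k))),
      ap_uEl hw (e8L_mem (ptN k)), ← vecOf_negL, idx_ptN hk] at h1
    exact vecOf_inj (uL_length v (by simp [e8L])) (by simp [negL, uL_length w (l := e8L k) (by simp [e8L])])
      h1.symm
  · rw [ap_mul _ _ (e8_mem i), ap_negOne (ap_mem _ (e8_mem i)), ← e8L_eq, ap_uEl hv (e8L_mem i),
      ap_uEl hw (e8L_mem i), h _ (idx i).isLt, vecOf_negL]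

/-- The letter of the first generator. -/
def lA : Ltr := .g (.perm m23Out.a aInv)
/-- The letter of the second generator. -/
def lB : Ltr := .g (.perm m23Out.b bInv)
/-- The letter of the third generator. -/
def lC : Ltr := .g (.perm m23Out.c cInv)

theorem letters_ok : lA.ok = true ∧ lB.ok = true ∧ lC.ok = true := by decide +kernel

theorem lA_el : lA.el = (gA : ↥Co0) := by
  obtain ⟨h', he⟩ := Stp.el_perm (show (Stp.perm m23Out.a aInv).ok = true from letters_ok.1)
  exact congrArg Subtype.val (he.trans rfl)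

theorem lB_el : lB.el = (gB : ↥Co0) := by
  obtain ⟨h', he⟩ := Stp.el_perm (show (Stp.perm m23Out.b bInv).ok = true from letters_ok.2.1)
  exact congrArg Subtype.val (he.trans rfl)

theorem lC_el : lC.el = (gC : ↥Co0) := by
  obtain ⟨h', he⟩ := Stp.el_perm (show (Stp.perm m23Out.c cInv).ok = true from letters_ok.2.2)
  exact congrArg Subtype.val (he.trans rfl)

theorem uEl_single (s : Ltr) : uEl [s] = s.el := by simp [uEl]

/-- The six elements commuting with the element of order 11. -/
def xWords : List (List Ltr) :=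
  [[], [.s], [.g .d], [.g .d, .s], [.s, .g .d], [.s, .g .d, .s]]

end

end Cfsg.Agent.LeechCount.Co1Out
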